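import Cfsg.Agent.H502.IF.BQ

/-!
# S5719, Baby Monster: identification of `O₂` of a 2B-centralizer (helper502)

`ident` : a 2-subgroup normal in the centralizer of an involution whose centralizer has order divisible by `2^41` is
conjugate into `PP`.
-/

set_option autoImplicit false

namespace Cfsg.Agent.H502.IFB.Ident

open Cfsg Subgroup
open Cfsg.Agent.BabyM Cfsg.Agent.BabyM.Model Cfsg.Agent.BabyU.ClosModel Cfsg.Agent.H502.IFB.Q

/-- a normal 2-subgroup of `C(z)` lies in `PP` -/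
theorem le_PP (P : Subgroup Inst.M.G) (hP : IsPGroup 2 P) (hPz : ∀ p ∈ P, p * zz Instance.all = zz Instance.all * p)
    (hn : ∀ g, g * zz Instance.all = zz Instance.all * g → ∀ p ∈ P, g * p * g⁻¹ ∈ P) : P ≤ PP Inst.M := by
  obtain ⟨π, hs, hπ⟩ := KFacts.Baby.Inst.quot Instance.all
  have h0 := Instance.all.grp.simple
  have hc0 : Nat.card GroupInst.K₀ = 42305421312000 := Instance.all.grp.card
  let N : Subgroup (centralizer ({zz Instance.all} : Set Inst.M.G)) := P.subgroupOf _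
  have hNn : N.Normal := ⟨fun p hp g => hn g (mem_centralizer_singleton_iff.1 g.2) p hp⟩
  have hNp : IsPGroup 2 N := hP.comap_subtype
  have hN' : (N.map π).Normal := hNn.map π hs
  rcases h0.eq_bot_or_eq_top_of_normal (N.map π) hN' with h1 | h1
  · intro p hp
    have h2 : π ⟨p, mem_centralizer_singleton_iff.2 (hPz p hp)⟩ ∈ N.map π := ⟨_, hp, rfl⟩
    rw [h1, mem_bot, hπ] at h2
    exact h2
  · exfalso
    have h2 : IsPGroup 2 (N.map π) := hNp.map π
    rw [h1] at h2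
    have hf : Fact (Nat.Prime 2) := ⟨Nat.prime_two⟩
    have hfin : Finite GroupInst.K₀ := Nat.finite_of_card_ne_zero (by rw [hc0]; norm_num)
    obtain ⟨n, hn'⟩ := IsPGroup.iff_card.1 h2
    rw [Nat.card_congr (Subgroup.topEquiv (G := GroupInst.K₀)).toEquiv, hc0] at hn'
    have h3 : 3 ∣ 2 ^ n := by rw [← hn']; norm_num
    have h4 := Nat.Prime.dvd_of_dvd_pow Nat.prime_three h3
    revert h4
    decide

/-- **Identification** -/
theorem ident {z₁ : Inst.M.G} (h1 : z₁ ≠ 1) (P₁ : Subgroup Inst.M.G) (hP : IsPGroup 2 P₁)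
    (hPz : ∀ p ∈ P₁, p * z₁ = z₁ * p) (hn : ∀ g, g * z₁ = z₁ * g → ∀ p ∈ P₁, g * p * g⁻¹ ∈ P₁)
    (hc : 2 ^ 41 ∣ Nat.card (centralizer ({z₁} : Set Inst.M.G))) : ∃ g, ∀ p ∈ P₁, g * p * g⁻¹ ∈ PP Inst.M := by
  have hf : Fact (Nat.Prime 2) := ⟨Nat.prime_two⟩
  have hfac : (4154781481226426191177580544000000 : ℕ) = 2 ^ 41 * 1889375872099856765625 := by norm_num
  -- a Sylow subgroup in `C(z₁)`
  obtain ⟨S', hS'⟩ := Sylow.exists_subgroup_card_pow_prime 2 hc
  set S : Subgroup Inst.M.G := S'.map (centralizer ({z₁} : Set Inst.M.G)).subtype with hS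
  have hSc : Nat.card S = 2 ^ 41 := by
    rw [← hS', hS]
    exact Nat.card_congr (S'.equivMapOfInjective _ (Subgroup.subtype_injective _)).symm.toEquiv
  have hSz : ∀ s ∈ S, s * z₁ = z₁ * s := by
    rintro _ ⟨x, -, rfl⟩
    exact mem_centralizer_singleton_iff.1 x.2
  -- a Sylow subgroup of `C(z)` containing `PP`
  have hNp : IsPGroup 2 ((PP Inst.M).subgroupOf (centralizer ({zz Instance.all} : Set Inst.M.G))) :=
    (two Instance.all).comap_subtype
  obtain ⟨T', hT'⟩ := hNp.exists_le_sylow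
  have hT'c : Nat.card T' = 2 ^ 41 := by
    rw [T'.card_eq_multiplicity, card_cent_z, show (2 ^ 23 * 42305421312000 : ℕ) = 2 ^ 41 * 161382375 by norm_num,
      Nat.factorization_mul (by norm_num) (by norm_num), Nat.prime_two.factorization_pow, Finsupp.add_apply,
      Finsupp.single_eq_same, Nat.factorization_eq_zero_of_not_dvd (by norm_num)]
  set T : Subgroup Inst.M.G := (T' : Subgroup _).map (centralizer ({zz Instance.all} : Set Inst.M.G)).subtype with hT
  have hTc : Nat.card T = 2 ^ 41 := by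
    rw [hT]
    exact (Nat.card_congr (Subgroup.equivMapOfInjective
      (T' : Subgroup (centralizer ({zz Instance.all} : Set Inst.M.G))) _ (Subgroup.subtype_injective _)).symm.toEquiv).trans
      hT'c
  have hPT : PP Inst.M ≤ T := by
    intro q hq
    have h2 : (⟨q, mem_centralizer_singleton_iff.2 (zc Instance.all q hq)⟩ : centralizer ({zz Instance.all} : Set Inst.M.G)) ∈
        (T' : Subgroup _) := hT' hq
    exact ⟨_, h2, rfl⟩
  have hG : (Nat.card Inst.M.G).factorization 2 = 41 := by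
    rw [card_G, hfac, Nat.factorization_mul (by norm_num) (by norm_num), Nat.prime_two.factorization_pow,
      Finsupp.add_apply, Finsupp.single_eq_same, Nat.factorization_eq_zero_of_not_dvd (by norm_num)]
  obtain ⟨g, hg⟩ := MulAction.exists_smul_eq Inst.M.G (Sylow.ofCard S (p := 2) (by rw [hG, hSc]))
    (Sylow.ofCard T (p := 2) (by rw [hG, hTc]))
  have hg' : ∀ q ∈ T, ∃ s ∈ S, g * s * g⁻¹ = q := by
    intro q hq
    have h2 : q ∈ (g • (Sylow.ofCard S (p := 2) (by rw [hG, hSc])) : Sylow 2 Inst.M.G) := by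
      rw [hg]; exact hq
    obtain ⟨s, hs, e⟩ := h2
    exact ⟨s, hs, e⟩
  have hcomm : ∀ y ∈ PP Inst.M, (g * z₁ * g⁻¹) * y = y * (g * z₁ * g⁻¹) := by
    intro y hy
    obtain ⟨s, hs, rfl⟩ := hg' y (hPT hy)
    calc g * z₁ * g⁻¹ * (g * s * g⁻¹) = g * (z₁ * s) * g⁻¹ := by group
      _ = g * (s * z₁) * g⁻¹ := by rw [hSz s hs]
      _ = _ := by group
  have hL := KFacts.Baby.Inst.large Instance.all
  have h2 : g * z₁ * g⁻¹ ∈ PP Inst.M := hL.self _ (hcomm _ (zP Instance.all)) hcomm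
  have h3 : g * z₁ * g⁻¹ = zz Instance.all := by
    refine (hL.cent _ h2 hcomm).resolve_left fun h4 => h1 ?_
    have h5 : z₁ = g⁻¹ * (g * z₁ * g⁻¹) * g := by group
    rw [h5, h4]; group
  refine ⟨g, fun p hp => ?_⟩
  refine le_PP (P₁.map (MulAut.conj g).toMonoidHom) (hP.map _) ?_ ?_ ⟨p, hp, rfl⟩
  · rintro _ ⟨x, hx, rfl⟩
    rw [← h3]
    show g * x * g⁻¹ * (g * z₁ * g⁻¹) = g * z₁ * g⁻¹ * (g * x * g⁻¹)
    calc g * x * g⁻¹ * (g * z₁ * g⁻¹) = g * (x * z₁) * g⁻¹ := by group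
      _ = g * (z₁ * x) * g⁻¹ := by rw [hPz x hx]
      _ = _ := by group
  · rintro k hk _ ⟨x, hx, rfl⟩
    refine ⟨(g⁻¹ * k * g) * x * (g⁻¹ * k * g)⁻¹, hn _ ?_ x hx, ?_⟩
    · rw [← h3] at hk
      calc g⁻¹ * k * g * z₁ = g⁻¹ * (k * (g * z₁ * g⁻¹)) * g := by group
        _ = g⁻¹ * (g * z₁ * g⁻¹ * k) * g := by rw [hk]
        _ = _ := by group
    · show g * (g⁻¹ * k * g * x * (g⁻¹ * k * g)⁻¹) * g⁻¹ = k * (g * x * g⁻¹) * k⁻¹
      group

end Cfsg.Agent.H502.IFB.Ident
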