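import Mathlib
import Cfsg.Agent.Monster.PauliBasic

/-!
# S5719, Baby Monster: moments of a character sum on `2^22` (helper502)

`O₁`, `O₂` are sets of singular vectors of `B 11 × B 11`, `|O₁| = 2300`, `|O₂| = 46575`,
`S u = ∑_{w ∈ O₁} (-1)^{(w,u)}` is `-516` on `O₁` and `252` on `O₂`. Then `S = -4` on the other nonzero singular
vectors, and a totally singular subgroup of order divisible by `2^9` meets `O₁ ∪ O₂`.
-/

set_option autoImplicit false

namespace Cfsg.Agent.H502.IFB.Moment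

open Cfsg.Agent.Monster.PauliBasic

/-- the vector space -/
abbrev VV (n : ℕ) := B n × B n

/-- the symplectic form -/
def fm {n : ℕ} (u w : VV n) : ZMod 2 := u.2 ⬝ᵥ w.1 + w.2 ⬝ᵥ u.1

/-- the quadratic form -/
def qf {n : ℕ} (u : VV n) : ZMod 2 := u.2 ⬝ᵥ u.1

variable {n : ℕ}

theorem fm_comm (u w : VV n) : fm u w = fm w u := by unfold fm; ring

theorem fm_add_right (w u v : VV n) : fm w (u + v) = fm w u + fm w v := by
  simp only [fm, Prod.fst_add, Prod.snd_add, add_dotProduct, dotProduct_add]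
  ring

theorem fm_add_left (w u v : VV n) : fm (u + v) w = fm u w + fm v w := by
  rw [fm_comm, fm_add_right, fm_comm w, fm_comm w]

theorem fm_zero_right (w : VV n) : fm w 0 = 0 := by
  simp [fm]

theorem fm_zero_left (w : VV n) : fm 0 w = 0 := by
  simp [fm]

theorem qf_add (u w : VV n) : qf (u + w) = qf u + qf w + fm w u := by
  simp only [qf, fm, Prod.fst_add, Prod.snd_add, add_dotProduct, dotProduct_add]
  ring

theorem qf_zero : qf (0 : VV n) = 0 := by simp [qf]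

theorem vadd_self (u : VV n) : u + u = 0 := Prod.ext (add_self _) (add_self _)

theorem exists_fm {w : VV n} (h : w ≠ 0) : ∃ u : VV n, fm w u = 1 := by
  by_cases ha : w.1 = 0
  · have hb : w.2 ≠ 0 := fun hb => h (Prod.ext ha hb)
    obtain ⟨v, hv⟩ := Pauli.exists_dot_ne hb
    refine ⟨(v, 0), ?_⟩
    simp only [fm, zero_dotProduct, add_zero]
    rw [dotProduct_comm]; exact hv
  · obtain ⟨v, hv⟩ := Pauli.exists_dot_ne ha
    refine ⟨(0, v), ?_⟩
    simp only [fm, dotProduct_zero, zero_add]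
    exact hv

/-! ### Character sums -/

/-- a character sum over a subgroup -/
theorem sum_sub (W : AddSubgroup (VV n)) [Fintype W] (w : VV n) (h : ∃ u ∈ W, fm w u ≠ 0) :
    ∑ u : W, sg ℤ (fm w u) = 0 := by
  obtain ⟨u₀, hu₀, h1⟩ := h
  have h2 : fm w u₀ = 1 := (zmod2_cases _).resolve_left h1
  have h3 : ∑ u : W, sg ℤ (fm w u) = ∑ u : W, sg ℤ (fm w ((u + ⟨u₀, hu₀⟩ : W) : VV n)) :=
    (Fintype.sum_equiv (Equiv.addRight (⟨u₀, hu₀⟩ : W)) _ _ (fun u => rfl)).symm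
  have h4 : ∑ u : W, sg ℤ (fm w ((u + ⟨u₀, hu₀⟩ : W) : VV n)) = - ∑ u : W, sg ℤ (fm w u) := by
    rw [← Finset.sum_neg_distrib]
    refine Finset.sum_congr rfl fun u _ => ?_
    rw [AddSubgroup.coe_add, fm_add_right, h2, sg_add, sg_one]
    ring
  rw [h4] at h3
  omega

theorem sum_sub' (W : AddSubgroup (VV n)) [Fintype W] (w : VV n) (h : ∀ u ∈ W, fm w u = 0) :
    ∑ u : W, sg ℤ (fm w u) = Fintype.card W := by
  have h1 : ∑ u : W, sg ℤ (fm w u) = ∑ _u : W, (1 : ℤ) :=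
    Finset.sum_congr rfl fun u _ => by rw [h u u.2, sg_zero]
  rw [h1, Finset.sum_const, Finset.card_univ, nsmul_eq_mul, mul_one]

theorem sum_all {w : VV n} (h : w ≠ 0) : ∑ u : VV n, sg ℤ (fm w u) = 0 := by
  obtain ⟨u₀, h2⟩ := exists_fm h
  have h3 : ∑ u : VV n, sg ℤ (fm w u) = ∑ u : VV n, sg ℤ (fm w (u + u₀)) :=
    (Fintype.sum_equiv (Equiv.addRight u₀) _ _ (fun u => rfl)).symm
  have h4 : ∑ u : VV n, sg ℤ (fm w (u + u₀)) = - ∑ u : VV n, sg ℤ (fm w u) := by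
    rw [← Finset.sum_neg_distrib]
    refine Finset.sum_congr rfl fun u _ => ?_
    rw [fm_add_right, h2, sg_add, sg_one]
    ring
  rw [h4] at h3
  omega

theorem card_VV : Fintype.card (VV n) = 2 ^ (2 * n) := by
  rw [Fintype.card_prod, Fintype.card_fun, ZMod.card, Fintype.card_fin]
  ring

theorem sum_dot {a : B n} (h : a ≠ 0) : ∑ b : B n, sg ℤ (b ⬝ᵥ a) = 0 := by
  obtain ⟨v, hv⟩ := Pauli.exists_dot_ne h
  have h3 : ∑ b : B n, sg ℤ (b ⬝ᵥ a) = ∑ b : B n, sg ℤ ((b + v) ⬝ᵥ a) :=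
    (Fintype.sum_equiv (Equiv.addRight v) _ _ (fun u => rfl)).symm
  have h4 : ∑ b : B n, sg ℤ ((b + v) ⬝ᵥ a) = - ∑ b : B n, sg ℤ (b ⬝ᵥ a) := by
    rw [← Finset.sum_neg_distrib]
    refine Finset.sum_congr rfl fun u _ => ?_
    rw [add_dotProduct, hv, sg_add, sg_one]
    ring
  rw [h4] at h3
  omega

theorem sum_qf : ∑ u : VV n, sg ℤ (qf u) = 2 ^ n := by
  rw [Fintype.sum_prod_type]
  have h1 : ∀ a : B n, ∑ b : B n, sg ℤ (qf ((a, b) : VV n)) = if a = 0 then 2 ^ n else 0 := by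
    intro a
    show ∑ b : B n, sg ℤ (b ⬝ᵥ a) = _
    split_ifs with h
    · rw [h]
      have h2 : ∀ b : B n, sg ℤ (b ⬝ᵥ (0 : B n)) = 1 := fun b => by rw [dotProduct_zero, sg_zero]
      rw [Finset.sum_congr rfl fun b _ => h2 b, Finset.sum_const, Finset.card_univ, Fintype.card_fun, ZMod.card,
        Fintype.card_fin, nsmul_eq_mul, mul_one]
      norm_num
    · exact sum_dot h
  rw [Finset.sum_congr rfl fun a _ => h1 a, Finset.sum_ite_eq' Finset.univ (0 : B n)]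
  simp

/-- the shifted Gauss sum -/
theorem sum_qf_fm (w : VV n) : ∑ u : VV n, sg ℤ (qf u) * sg ℤ (fm w u) = sg ℤ (qf w) * 2 ^ n := by
  have h1 : ∀ u : VV n, sg ℤ (qf u) * sg ℤ (fm w u) = sg ℤ (qf w) * sg ℤ (qf (u + w)) := by
    intro u
    have h2 : qf u = qf (u + w) + qf w + fm w u := by
      rw [qf_add]
      have e1 := zmod2_add_self (qf w)
      have e2 := zmod2_add_self (fm w u)
      linear_combination -e1 - e2
    rw [h2, sg_add, sg_add]
    have e3 := sg_mul_self ℤ (fm w u)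
    linear_combination (sg ℤ (qf (u + w)) * sg ℤ (qf w)) * e3
  rw [Finset.sum_congr rfl fun u _ => h1 u, ← Finset.mul_sum]
  congr 1
  rw [← sum_qf (n := n)]
  exact Fintype.sum_equiv (Equiv.addRight w) _ _ (fun u => rfl)

/-! ### The sum over `O₁` -/

/-- the character sum -/
def SS (O : Finset (VV n)) (u : VV n) : ℤ := ∑ w ∈ O, sg ℤ (fm w u)

theorem SS_zero (O : Finset (VV n)) : SS O 0 = O.card := by
  unfold SS
  rw [Finset.sum_congr rfl fun w _ => by rw [fm_zero_right, sg_zero], Finset.sum_const, nsmul_eq_mul, mul_one]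

theorem m1 {O : Finset (VV n)} (h0 : (0 : VV n) ∉ O) : ∑ u : VV n, SS O u = 0 := by
  unfold SS
  rw [Finset.sum_comm]
  exact Finset.sum_eq_zero fun w hw => sum_all (fun h => h0 (h ▸ hw))

theorem m2 {O : Finset (VV n)} (hq : ∀ w ∈ O, qf w = 0) : ∑ u : VV n, sg ℤ (qf u) * SS O u = O.card * 2 ^ n := by
  unfold SS
  simp only [Finset.mul_sum]
  rw [Finset.sum_comm]
  have h1 : ∀ w ∈ O, ∑ u : VV n, sg ℤ (qf u) * sg ℤ (fm w u) = 2 ^ n := by
    intro w hw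
    rw [sum_qf_fm, hq w hw, sg_zero, one_mul]
  rw [Finset.sum_congr rfl h1, Finset.sum_const, nsmul_eq_mul]

theorem SS_sq (O : Finset (VV n)) (u : VV n) : SS O u ^ 2 = ∑ w ∈ O, ∑ w' ∈ O, sg ℤ (fm (w + w') u) := by
  rw [pow_two]
  unfold SS
  rw [Finset.sum_mul_sum]
  refine Finset.sum_congr rfl fun w _ => Finset.sum_congr rfl fun w' _ => ?_
  rw [fm_add_left, sg_add]

theorem m3 (O : Finset (VV n)) : ∑ u : VV n, SS O u ^ 2 = O.card * 2 ^ (2 * n) := by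
  simp only [SS_sq]
  rw [Finset.sum_comm]
  have h1 : ∀ w ∈ O, ∑ u : VV n, ∑ w' ∈ O, sg ℤ (fm (w + w') u) = 2 ^ (2 * n) := by
    intro w hw
    rw [Finset.sum_comm, Finset.sum_eq_single_of_mem w hw]
    · have h2 : ∀ u : VV n, sg ℤ (fm (w + w) u) = 1 := fun u => by rw [vadd_self, fm_zero_left, sg_zero]
      rw [Finset.sum_congr rfl fun u _ => h2 u, Finset.sum_const, Finset.card_univ, card_VV, nsmul_eq_mul, mul_one]
      norm_num
    · intro w' _ hne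
      refine sum_all fun h => hne ?_
      have h3 : w' = w + (w + w') := by rw [← add_assoc, vadd_self, zero_add]
      rw [h3, h, add_zero]
  rw [Finset.sum_congr rfl h1, Finset.sum_const, nsmul_eq_mul]

theorem m4 {O : Finset (VV n)} (hq : ∀ w ∈ O, qf w = 0) :
    ∑ u : VV n, sg ℤ (qf u) * SS O u ^ 2 = 2 ^ n * ∑ w ∈ O, SS O w := by
  simp only [SS_sq, Finset.mul_sum]
  rw [Finset.sum_comm]
  refine Finset.sum_congr rfl fun w hw => ?_
  rw [Finset.sum_comm]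
  have h1 : ∀ w' ∈ O, ∑ u : VV n, sg ℤ (qf u) * sg ℤ (fm (w + w') u) = 2 ^ n * sg ℤ (fm w' w) := by
    intro w' hw'
    rw [sum_qf_fm, qf_add, hq w hw, hq w' hw', zero_add, zero_add, mul_comm]
  rw [Finset.sum_congr rfl h1]
  unfold SS
  rw [Finset.mul_sum]

/-- the weighted sum of squares -/
theorem m5 {O : Finset (VV n)} (h0 : (0 : VV n) ∉ O) (hq : ∀ w ∈ O, qf w = 0) (c : ℤ) :
    ∑ u : VV n, (1 + sg ℤ (qf u)) * (SS O u + c) ^ 2 =
      O.card * 2 ^ (2 * n) + 2 ^ n * ∑ w ∈ O, SS O w + 2 * c * (O.card * 2 ^ n) + c ^ 2 * (2 ^ (2 * n) + 2 ^ n) := by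
  have h1 : ∀ u : VV n, (1 + sg ℤ (qf u)) * (SS O u + c) ^ 2 =
      SS O u ^ 2 + sg ℤ (qf u) * SS O u ^ 2 + 2 * c * SS O u + 2 * c * (sg ℤ (qf u) * SS O u) + c ^ 2 * 1 +
        c ^ 2 * sg ℤ (qf u) := by
    intro u; ring
  rw [Finset.sum_congr rfl fun u _ => h1 u]
  rw [Finset.sum_add_distrib, Finset.sum_add_distrib, Finset.sum_add_distrib, Finset.sum_add_distrib,
    Finset.sum_add_distrib, m3, m4 hq, ← Finset.mul_sum, m1 h0, ← Finset.mul_sum, m2 hq, ← Finset.mul_sum,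
    ← Finset.mul_sum, sum_qf, Finset.sum_const, Finset.card_univ, card_VV]
  push_cast
  ring

/-- **`S = -4` outside the orbits** -/
theorem SS_other {O₁ O₂ : Finset (VV 11)} (c1 : O₁.card = 2300) (c2 : O₂.card = 46575)
    (q1 : ∀ w ∈ O₁, qf w = 0) (q2 : ∀ w ∈ O₂, qf w = 0) (z1 : (0 : VV 11) ∉ O₁) (z2 : (0 : VV 11) ∉ O₂)
    (s1 : ∀ w ∈ O₁, SS O₁ w = -516) (s2 : ∀ w ∈ O₂, SS O₁ w = 252)
    {u : VV 11} (hu : qf u = 0) (u0 : u ≠ 0) (u1 : u ∉ O₁) (u2 : u ∉ O₂) : SS O₁ u = -4 := by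
  classical
  have h1 := m5 z1 q1 4
  have hd : Disjoint O₁ O₂ := by
    rw [Finset.disjoint_left]
    intro w hw hw'
    have e1 := s1 w hw
    have e2 := s2 w hw'
    omega
  rw [Finset.sum_congr rfl s1, Finset.sum_const, c1] at h1
  have h2 : ∑ v ∈ insert u (insert 0 (O₁ ∪ O₂)), (1 + sg ℤ (qf v)) * (SS O₁ v + 4) ^ 2 ≤
      ∑ v : VV 11, (1 + sg ℤ (qf v)) * (SS O₁ v + 4) ^ 2 := by
    refine Finset.sum_le_sum_of_subset_of_nonneg (Finset.subset_univ _) fun v _ _ => ?_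
    refine mul_nonneg ?_ (sq_nonneg _)
    rcases sg_eq_or ℤ (qf v) with e | e
    · rw [e]; norm_num
    · rw [e]; norm_num
  have n0 : (0 : VV 11) ∉ O₁ ∪ O₂ := by
    rw [Finset.mem_union]; exact fun h => h.elim z1 z2
  have nu : u ∉ insert 0 (O₁ ∪ O₂) := by
    rw [Finset.mem_insert, Finset.mem_union]
    rintro (h | h | h)
    · exact u0 h
    · exact u1 h
    · exact u2 h
  rw [Finset.sum_insert nu, Finset.sum_insert n0, Finset.sum_union hd, hu, qf_zero, SS_zero, c1] at h2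
  have t1 : ∀ w ∈ O₁, (1 + sg ℤ (qf w)) * (SS O₁ w + 4) ^ 2 = 2 * 512 ^ 2 := by
    intro w hw
    rw [q1 w hw, s1 w hw, sg_zero]; norm_num
  have t2 : ∀ w ∈ O₂, (1 + sg ℤ (qf w)) * (SS O₁ w + 4) ^ 2 = 2 * 256 ^ 2 := by
    intro w hw
    rw [q2 w hw, s2 w hw, sg_zero]; norm_num
  rw [Finset.sum_congr rfl t1, Finset.sum_congr rfl t2, Finset.sum_const, Finset.sum_const, c1, c2, sg_zero, h1] at h2
  have h3 : (SS O₁ u + 4) ^ 2 ≤ 0 := by
    norm_num at h2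
    linarith
  have h4 : SS O₁ u + 4 = 0 := by
    have h5 := sq_nonneg (SS O₁ u + 4)
    exact pow_eq_zero_iff (two_ne_zero) |>.1 (le_antisymm h3 h5)
  omega

/-- **A totally singular subgroup of order divisible by `2^9` meets `O₁ ∪ O₂`.** -/
theorem exists_mem {O₁ O₂ : Finset (VV 11)} (c1 : O₁.card = 2300) (c2 : O₂.card = 46575)
    (q1 : ∀ w ∈ O₁, qf w = 0) (q2 : ∀ w ∈ O₂, qf w = 0) (z1 : (0 : VV 11) ∉ O₁) (z2 : (0 : VV 11) ∉ O₂)
    (s1 : ∀ w ∈ O₁, SS O₁ w = -516) (s2 : ∀ w ∈ O₂, SS O₁ w = 252)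
    (W : AddSubgroup (VV 11)) (hW : ∀ u ∈ W, qf u = 0) (h9 : 2 ^ 9 ∣ Nat.card W) :
    ∃ u ∈ W, u ∈ O₁ ∨ u ∈ O₂ := by
  classical
  by_contra hcon
  push Not at hcon
  have h1 : ∀ u : W, SS O₁ (u : VV 11) = -4 + if u = 0 then 2304 else 0 := by
    intro u
    split_ifs with h
    · rw [h, AddSubgroup.coe_zero, SS_zero, c1]; norm_num
    · rw [add_zero]
      obtain ⟨k1, k2⟩ := hcon u u.2
      exact SS_other c1 c2 q1 q2 z1 z2 s1 s2 (hW u u.2) (fun h' => h (Subtype.ext h')) k1 k2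
  have h2 : ∑ u : W, SS O₁ (u : VV 11) = -4 * Fintype.card W + 2304 := by
    rw [Finset.sum_congr rfl fun u _ => h1 u, Finset.sum_add_distrib, Finset.sum_const, Finset.card_univ,
      Finset.sum_ite_eq' Finset.univ (0 : W)]
    simp only [Finset.mem_univ, if_true, nsmul_eq_mul]
    ring
  have h3 : ∑ u : W, SS O₁ (u : VV 11) = (O₁.filter fun w => ∀ u ∈ W, fm w u = 0).card * Fintype.card W := by
    unfold SS
    rw [Finset.sum_comm]
    have h4 : ∀ w ∈ O₁, ∑ u : W, sg ℤ (fm w u) = if (∀ u ∈ W, fm w u = 0) then (Fintype.card W : ℤ) else 0 := by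
      intro w _
      split_ifs with h
      · exact sum_sub' W w h
      · push Not at h
        exact sum_sub W w h
    rw [Finset.sum_congr rfl h4, ← Finset.sum_filter, Finset.sum_const, nsmul_eq_mul]
  rw [h2, ← Nat.card_eq_fintype_card] at h3
  have h5 : (2304 : ℤ) = Nat.card W * ((O₁.filter fun w => ∀ u ∈ W, fm w u = 0).card + 4) := by linarith
  have h6 : (2304 : ℕ) = Nat.card W * ((O₁.filter fun w => ∀ u ∈ W, fm w u = 0).card + 4) := by exact_mod_cast h5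
  have h7 : 2 ^ 9 ∣ 2304 := by
    rw [h6]; exact Dvd.dvd.mul_right h9 _
  revert h7
  decide

end Cfsg.Agent.H502.IFB.Moment
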